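import Groth.Agent.SymCone42.Quartic
import Mathlib.Algebra.MvPolynomial.Division
import Mathlib.RingTheory.Polynomial.UniqueFactorization

/-!
# `V(σ₂, σ₄) ⊂ 𝔸⁵` is irreducible
-/

set_option autoImplicit false

universe u

open Polynomial

namespace Groth.Agent.SymCone42

theorem irreducible_linear {T : Type u} [CommRing T] [IsDomain T] {a b : T} (ha : a ≠ 0)
    (hprim : ∀ r : T, r ∣ a → r ∣ b → IsUnit r) : Irreducible (C a * X + C b) := by
  set P := C a * X + C b with hP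
  have hdeg : P.natDegree = 1 := natDegree_linear ha
  have hco : P.coeff 1 = a ∧ P.coeff 0 = b := by simp [P]
  have hconst : ∀ F G : T[X], P = F * G → F.natDegree = 0 → IsUnit F := fun F G hFG hF => by
    rw [eq_C_of_natDegree_eq_zero hF] at hFG ⊢
    refine (hprim _ ?_ ?_).map C
    · rw [← hco.1, hFG, coeff_C_mul]; exact dvd_mul_right _ _
    · rw [← hco.2, hFG, coeff_C_mul]; exact dvd_mul_right _ _
  refine ⟨fun h => ?_, fun {F G} hFG => ?_⟩
  · have := natDegree_eq_zero_of_isUnit h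
    omega
  have hP0 : P ≠ 0 := fun h => by rw [h, natDegree_zero] at hdeg; omega
  have hsum : F.natDegree + G.natDegree = 1 := by
    rw [← natDegree_mul (left_ne_zero_of_mul (hFG ▸ hP0)) (right_ne_zero_of_mul (hFG ▸ hP0)), ← hFG, hdeg]
  rcases Nat.eq_zero_or_pos F.natDegree with hF | hF
  · exact Or.inl (hconst F G hFG hF)
  · exact Or.inr (hconst G F (hFG.trans (mul_comm _ _)) (by omega))

variable (k : Type u) [Field k]

local notation "U" => MvPolynomial (Fin 2) k
local notation "T" => MvPolynomial (Fin 3) k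
local notation "S" => MvPolynomial (Fin 4) k
local notation "R5" => MvPolynomial (Fin 5) k

noncomputable section

open MvPolynomial in
/-- Elementary symmetric polynomials in three variables. -/
def t₁ : T := X 0 + X 1 + X 2
open MvPolynomial in
def t₂ : T := X 0 * X 1 + X 0 * X 2 + X 1 * X 2
open MvPolynomial in
def t₃ : T := X 0 * X 1 * X 2
open MvPolynomial in
def s₁ : S := X 0 + X 1 + X 2 + X 3
open MvPolynomial in
def s₂ : S := X 0 * X 1 + X 0 * X 2 + X 0 * X 3 + X 1 * X 2 + X 1 * X 3 + X 2 * X 3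
open MvPolynomial in
def s₃ : S := X 0 * X 1 * X 2 + X 0 * X 1 * X 3 + X 0 * X 2 * X 3 + X 1 * X 2 * X 3
open MvPolynomial in
def s₄ : S := X 0 * X 1 * X 2 * X 3

end

theorem not_isSquare_disc [IsAlgClosed k] [CharZero k] :
    ¬ IsSquare (-3 * (MvPolynomial.X 0 : U) ^ 2 - 2 * MvPolynomial.X 0 * MvPolynomial.X 1 -
      3 * MvPolynomial.X 1 ^ 2) := by
  rintro ⟨w, hw⟩
  have h := congrArg (MvPolynomial.aeval (R := k) (![Polynomial.X, 1] : Fin 2 → k[X])) hw
  simp only [map_mul, map_sub, map_neg, map_ofNat, map_pow, MvPolynomial.aeval_X, Matrix.cons_val_zero,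
    Matrix.cons_val_one, mul_one, one_pow] at h
  generalize MvPolynomial.aeval (R := k) (![Polynomial.X, 1] : Fin 2 → k[X]) w = v at h
  obtain ⟨r, hr⟩ := IsAlgClosed.exists_root (p := (3 * X ^ 2 + 2 * X + 3 : k[X])) (by
    rw [← map_ofNat (C : k →+* k[X]) 3, ← map_ofNat (C : k →+* k[X]) 2, degree_quadratic (by norm_num)]
    decide)
  simp only [IsRoot, eval_add, eval_mul, eval_ofNat, eval_pow, eval_X] at hr
  have h0 := congrArg (eval r) h
  simp only [eval_sub, eval_mul, eval_neg, eval_ofNat, eval_pow, eval_X] at h0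
  have hv : v.eval r = 0 := mul_self_eq_zero.1 (by linear_combination -h0 - hr)
  have h1 := congrArg (fun p => (derivative p).eval r) h
  simp [derivative_mul, hv] at h1
  have hr3 : 3 * r = -1 := by linear_combination -(1 / 2 : k) * h1
  exact absurd (show (8 : k) = 0 by linear_combination 3 * hr - (3 * r + 1) * hr3) (by norm_num)

variable [IsAlgClosed k] [CharZero k]

theorem t₂_prime : Prime (t₂ k) := by
  have h0 : Prime (MvPolynomial.X 0 : U) := MvPolynomial.X_prime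
  have : Irreducible (C (MvPolynomial.X 0 + MvPolynomial.X 1 : U) * X + C (MvPolynomial.X 0 * MvPolynomial.X 1)) := by
    refine irreducible_linear (fun h => ?_) fun r ha hb => ?_
    · simpa using congrArg (MvPolynomial.eval ![(1 : k), 0]) h
    · have h2 : r ∣ (MvPolynomial.X 0 : U) ^ 2 := by
        have := dvd_sub (ha.mul_left (MvPolynomial.X 0)) hb
        convert this using 1; ring
      obtain ⟨i, hi, hri⟩ := (dvd_prime_pow h0 2).1 h2
      rcases Nat.eq_zero_or_pos i with rfl | hpos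
      · exact associated_one_iff_isUnit.1 (by simpa using hri)
      · obtain ⟨u, hu⟩ := ((dvd_pow_self _ hpos.ne').trans hri.symm.dvd).trans ha
        simpa using congrArg (MvPolynomial.eval ![(0 : k), 1]) hu
  rw [← MulEquiv.prime_iff (MvPolynomial.finSuccEquiv k 2).toMulEquiv]
  show Prime (MvPolynomial.finSuccEquiv k 2 (t₂ k))
  have e : MvPolynomial.finSuccEquiv k 2 (t₂ k) =
      C (MvPolynomial.X 0 + MvPolynomial.X 1 : U) * X + C (MvPolynomial.X 0 * MvPolynomial.X 1) := by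
    rw [t₂, show (1 : Fin 3) = (0 : Fin 2).succ from rfl, show (2 : Fin 3) = (1 : Fin 2).succ from rfl]
    simp only [map_add, map_mul, MvPolynomial.finSuccEquiv_X_zero, MvPolynomial.finSuccEquiv_X_succ]
    ring
  rw [e]
  exact this.prime

theorem q_prime : Prime (t₂ k - t₁ k ^ 2) := by
  have : Irreducible (C (-1 : U) * X ^ 2 + C (-(MvPolynomial.X 0 + MvPolynomial.X 1)) * X +
      C (-(MvPolynomial.X 0 ^ 2 + MvPolynomial.X 1 ^ 2 + MvPolynomial.X 0 * MvPolynomial.X 1))) :=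
    irreducible_quadratic (neg_ne_zero.2 one_ne_zero)
      (fun r hr _ _ => isUnit_of_dvd_one (dvd_neg.1 hr))
      (by
        rintro ⟨w, hw⟩
        exact not_isSquare_disc k ⟨w, by linear_combination hw⟩)
  rw [← MulEquiv.prime_iff (MvPolynomial.finSuccEquiv k 2).toMulEquiv]
  show Prime (MvPolynomial.finSuccEquiv k 2 (t₂ k - t₁ k ^ 2))
  have e : MvPolynomial.finSuccEquiv k 2 (t₂ k - t₁ k ^ 2) =
      C (-1 : U) * X ^ 2 + C (-(MvPolynomial.X 0 + MvPolynomial.X 1)) * X +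
      C (-(MvPolynomial.X 0 ^ 2 + MvPolynomial.X 1 ^ 2 + MvPolynomial.X 0 * MvPolynomial.X 1)) := by
    rw [t₁, t₂, show (1 : Fin 3) = (0 : Fin 2).succ from rfl, show (2 : Fin 3) = (1 : Fin 2).succ from rfl]
    simp only [map_add, map_mul, map_sub, map_pow, map_neg, map_one, MvPolynomial.finSuccEquiv_X_zero,
      MvPolynomial.finSuccEquiv_X_succ]
    ring
  rw [e]
  exact this.prime

theorem not_t₂_dvd_t₃ : ¬ t₂ k ∣ t₃ k := by
  rintro ⟨u, hu⟩
  have := congrArg (MvPolynomial.eval ![(2 : k), 2, -1]) hu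
  simp [t₂, t₃] at this
  norm_num at this

theorem finSucc_s :
    MvPolynomial.finSuccEquiv k 3 (s₁ k) = X + C (t₁ k) ∧
    MvPolynomial.finSuccEquiv k 3 (s₂ k) = C (t₁ k) * X + C (t₂ k) ∧
    MvPolynomial.finSuccEquiv k 3 (s₃ k) = C (t₂ k) * X + C (t₃ k) ∧
    MvPolynomial.finSuccEquiv k 3 (s₄ k) = C (t₃ k) * X := by
  refine ⟨?_, ?_, ?_, ?_⟩ <;>
  · simp only [s₁, s₂, s₃, s₄, t₁, t₂, t₃]
    rw [show (1 : Fin 4) = (0 : Fin 3).succ from rfl, show (2 : Fin 4) = (1 : Fin 3).succ from rfl,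
      show (3 : Fin 4) = (2 : Fin 3).succ from rfl]
    simp only [map_add, map_mul, MvPolynomial.finSuccEquiv_X_zero, MvPolynomial.finSuccEquiv_X_succ]
    ring

theorem P_prime_and : Prime (s₁ k * s₄ k - s₂ k * s₃ k) ∧ ¬ (s₁ k * s₄ k - s₂ k * s₃ k) ∣ s₁ k := by
  obtain ⟨e1, e2, e3, e4⟩ := finSucc_s k
  set φ := MvPolynomial.finSuccEquiv k 3
  have e : φ (s₁ k * s₄ k - s₂ k * s₃ k) =
      C (t₃ k - t₁ k * t₂ k) * X ^ 2 + C (-(t₂ k ^ 2)) * X + C (-(t₂ k * t₃ k)) := by
    rw [map_sub, map_mul, map_mul, e1, e2, e3, e4]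
    simp only [map_sub, map_mul, map_neg, map_pow]
    ring
  have hp := t₂_prime k
  have ha : t₃ k - t₁ k * t₂ k ≠ 0 := fun h =>
    not_t₂_dvd_t₃ k ⟨t₁ k, by linear_combination h⟩
  have hirr := irreducible_quadratic (b := -(t₂ k ^ 2)) (c := -(t₂ k * t₃ k)) ha (fun r hr hb _ => by
      obtain ⟨i, -, hri⟩ := (dvd_prime_pow hp 2).1 (dvd_neg.1 hb)
      rcases Nat.eq_zero_or_pos i with rfl | hpos
      · exact associated_one_iff_isUnit.1 (by simpa using hri)
      · obtain ⟨u, hu⟩ := ((dvd_pow_self _ hpos.ne').trans hri.symm.dvd).trans hr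
        exact absurd ⟨t₁ k + u, by linear_combination hu⟩ (not_t₂_dvd_t₃ k))
    (by
      rintro ⟨w, hw⟩
      have h1 : t₂ k ∣ w * w :=
        ⟨t₂ k ^ 3 + 4 * t₃ k ^ 2 - 4 * t₁ k * t₂ k * t₃ k, by rw [← hw]; ring⟩
      obtain ⟨v, rfl⟩ := (hp.dvd_or_dvd h1).elim id id
      have h2 : t₂ k * (t₂ k ^ 3 + 4 * t₃ k ^ 2 - 4 * t₁ k * t₂ k * t₃ k) = t₂ k * (t₂ k * (v * v)) := by
        linear_combination hw
      have h3 : t₂ k ∣ MvPolynomial.C (4 : k) * t₃ k ^ 2 :=
        ⟨v * v - t₂ k ^ 2 + 4 * t₁ k * t₃ k, by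
          rw [map_ofNat]; linear_combination mul_left_cancel₀ hp.ne_zero h2⟩
      rcases hp.dvd_or_dvd h3 with h4 | h4
      · exact hp.not_unit (isUnit_of_dvd_unit h4 ((IsUnit.mk0 (4 : k) (by norm_num)).map MvPolynomial.C))
      · exact not_t₂_dvd_t₃ k (hp.dvd_of_dvd_pow h4))
  refine ⟨?_, fun hd => ?_⟩
  · rw [← MulEquiv.prime_iff φ.toMulEquiv]
    show Prime (φ _)
    rw [e]
    exact hirr.prime
  · have hd' := map_dvd φ hd
    rw [e, e1] at hd'
    have := natDegree_le_of_dvd hd' (X_add_C_ne_zero _)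
    rw [natDegree_quadratic ha, natDegree_X_add_C] at this
    omega

theorem esymm_two_four :
    MvPolynomial.finSuccEquiv k 4 (MvPolynomial.esymm (Fin 5) k 2) = C (s₂ k) + C (s₁ k) * X ∧
    MvPolynomial.finSuccEquiv k 4 (MvPolynomial.esymm (Fin 5) k 4) = C (s₄ k) + C (s₃ k) * X := by
  have h2 : (Finset.univ : Finset (Fin 5)).powersetCard 2 =
      {{0, 1}, {0, 2}, {0, 3}, {0, 4}, {1, 2}, {1, 3}, {1, 4}, {2, 3}, {2, 4}, {3, 4}} := by decide
  have h4 : (Finset.univ : Finset (Fin 5)).powersetCard 4 =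
      {{0, 1, 2, 3}, {0, 1, 2, 4}, {0, 1, 3, 4}, {0, 2, 3, 4}, {1, 2, 3, 4}} := by decide
  rw [MvPolynomial.esymm, MvPolynomial.esymm, h2, h4]
  refine ⟨?_, ?_⟩ <;>
  · repeat rw [Finset.sum_insert (by decide)]
    rw [Finset.sum_singleton]
    repeat rw [Finset.prod_insert (by decide)]
    simp only [Finset.prod_singleton, s₁, s₂, s₃, s₄]
    rw [show (1 : Fin 5) = (0 : Fin 4).succ from rfl, show (2 : Fin 5) = (1 : Fin 4).succ from rfl,
      show (3 : Fin 5) = (2 : Fin 4).succ from rfl, show (4 : Fin 5) = (3 : Fin 4).succ from rfl]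
    simp only [map_add, map_mul, MvPolynomial.finSuccEquiv_X_zero, MvPolynomial.finSuccEquiv_X_succ]
    ring

theorem result : (Ideal.span ({MvPolynomial.esymm (Fin 5) k 2, MvPolynomial.esymm (Fin 5) k 4} :
      Set R5)).radical.IsPrime := by
  obtain ⟨e1, e2, e3, e4⟩ := finSucc_s k
  obtain ⟨hP, hnd⟩ := P_prime_and k
  set φ := MvPolynomial.finSuccEquiv k 3
  have hs₁ : (Ideal.span {s₁ k}).IsPrime := by
    refine (Ideal.span_singleton_prime fun h => ?_).2 ?_
    · exact X_add_C_ne_zero (t₁ k) (by rw [← e1, h, map_zero])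
    · rw [← MulEquiv.prime_iff φ.toMulEquiv]
      show Prime (φ _)
      rw [e1, show X + C (t₁ k) = X - C (-t₁ k) by simp]
      exact prime_X_sub_C _
  have h₁₂ : (Ideal.span {s₁ k, s₂ k}).IsPrime := by
    have := isPrime_span_pair (-t₁ k) (φ (s₂ k)) (q_prime k) (by rw [e2]; simp; ring)
    have h2 := Ideal.comap_isPrime φ.toRingEquiv.toRingHom (Ideal.span {X - C (-t₁ k), φ (s₂ k)})
    convert h2 using 1
    rw [← Ideal.comap_map_of_bijective φ.toRingEquiv.toRingHom φ.toRingEquiv.bijective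
      (I := Ideal.span {s₁ k, s₂ k}), Ideal.map_span, Set.image_pair]
    simp [e1]
  have hs1 : s₁ k ≠ 0 := fun h => X_add_C_ne_zero (t₁ k) (by rw [← e1, h, map_zero])
  have hs2 : ¬ s₁ k ∣ s₂ k := by
    rintro ⟨u, hu⟩
    have := congrArg (MvPolynomial.eval ![(1 : k), -1, 0, 0]) hu
    simp [s₁, s₂] at this
  obtain ⟨w, hw⟩ := IsAlgClosed.exists_root (p := (X ^ 2 + X + 1 : k[X])) (by
    rw [show (X ^ 2 + X + 1 : k[X]) = C 1 * X ^ 2 + C 1 * X + C 1 by simp, degree_quadratic one_ne_zero]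
    decide)
  simp only [IsRoot, eval_add, eval_one, eval_pow, eval_X] at hw
  have hs3 : s₃ k ∉ Ideal.span {s₁ k, s₂ k} := fun h => by
    obtain ⟨u, v, huv⟩ := Ideal.mem_span_pair.1 h
    have := congrArg (MvPolynomial.eval ![(1 : k), w, w ^ 2, 0]) huv
    simp [s₁, s₂, s₃] at this
    rw [show 1 + w + w ^ 2 = 0 by linear_combination hw,
      show w + w ^ 2 + w * w ^ 2 = 0 by linear_combination w * hw] at this
    simp only [mul_zero, add_zero] at this
    have h3 : w ^ 3 = 1 := by linear_combination (w - 1) * hw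
    exact one_ne_zero (α := k) (by linear_combination -this - h3)
  have key := radical_isPrime (s₁ k) (s₂ k) (s₃ k) (s₄ k) hs1 hP hnd hs₁ h₁₂ hs2 hs3
  obtain ⟨a2, a4⟩ := esymm_two_four k
  set ψ := (MvPolynomial.finSuccEquiv k 4).toRingEquiv.toRingHom
  have h := Ideal.comap_isPrime ψ (Ideal.span ({C (s₂ k) + C (s₁ k) * X, C (s₄ k) + C (s₃ k) * X} : Set S[X])).radical
  rwa [Ideal.comap_radical, show Ideal.comap ψ (Ideal.span ({C (s₂ k) + C (s₁ k) * X, C (s₄ k) + C (s₃ k) * X} : Set S[X]))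
      = Ideal.span {MvPolynomial.esymm (Fin 5) k 2, MvPolynomial.esymm (Fin 5) k 4} by
    rw [← Ideal.comap_map_of_bijective ψ (MvPolynomial.finSuccEquiv k 4).toRingEquiv.bijective
      (I := Ideal.span {MvPolynomial.esymm (Fin 5) k 2, MvPolynomial.esymm (Fin 5) k 4}), Ideal.map_span,
      Set.image_pair]
    congr 3 <;> simp [ψ, a2, a4]] at h

end Groth.Agent.SymCone42
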