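import Mathlib.Algebra.MvPolynomial.Equiv
import Mathlib.RingTheory.MvPolynomial.Symmetric.Defs
import Mathlib.RingTheory.Polynomial.Basic
import Mathlib.RingTheory.Polynomial.Content
import Mathlib.RingTheory.Ideal.Height
import Mathlib.RingTheory.Ideal.KrullsHeightTheorem
import Mathlib.RingTheory.Ideal.MinimalPrime.Basic
import Mathlib.Algebra.Polynomial.Div
import Mathlib.RingTheory.UniqueFactorizationDomain.Ideal
import Mathlib.FieldTheory.IsAlgClosed.Basic
import Mathlib.Tactic

/-!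
# The cone over the surface `σ₂ = σ₄ = 0` in five variables is irreducible
-/

set_option autoImplicit false

universe u

open Polynomial

namespace Groth.Agent.SymCone42

/-- A primitive quadratic polynomial with non-square discriminant is irreducible. -/
theorem irreducible_quadratic {T : Type u} [CommRing T] [IsDomain T] {a b c : T} (ha : a ≠ 0)
    (hprim : ∀ r : T, r ∣ a → r ∣ b → r ∣ c → IsUnit r) (hdisc : ¬ IsSquare (b ^ 2 - 4 * a * c)) :
    Irreducible (C a * X ^ 2 + C b * X + C c) := by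
  set P := C a * X ^ 2 + C b * X + C c
  have hdeg : P.natDegree = 2 := natDegree_quadratic ha
  have hco : P.coeff 2 = a ∧ P.coeff 1 = b ∧ P.coeff 0 = c := by simp [P, coeff_X]
  have hconst : ∀ F G : T[X], P = F * G → F.natDegree = 0 → IsUnit F := fun F G hFG hF => by
    rw [eq_C_of_natDegree_eq_zero hF] at hFG ⊢
    refine (hprim _ ?_ ?_ ?_).map C
    · rw [← hco.1, hFG, coeff_C_mul]; exact dvd_mul_right _ _
    · rw [← hco.2.1, hFG, coeff_C_mul]; exact dvd_mul_right _ _
    · rw [← hco.2.2, hFG, coeff_C_mul]; exact dvd_mul_right _ _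
  refine ⟨fun h => ?_, fun {F G} hFG => ?_⟩
  · have := natDegree_eq_zero_of_isUnit h
    omega
  have hP0 : P ≠ 0 := fun h => by rw [h, natDegree_zero] at hdeg; omega
  have hsum : F.natDegree + G.natDegree = 2 := by
    rw [← natDegree_mul (left_ne_zero_of_mul (hFG ▸ hP0)) (right_ne_zero_of_mul (hFG ▸ hP0)), ← hFG, hdeg]
  rcases Nat.eq_zero_or_pos F.natDegree with hF | hF
  · exact Or.inl (hconst F G hFG hF)
  rcases Nat.eq_zero_or_pos G.natDegree with hG | hG
  · exact Or.inr (hconst G F (hFG.trans (mul_comm _ _)) hG)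
  refine absurd ⟨F.coeff 1 * G.coeff 0 - F.coeff 0 * G.coeff 1, ?_⟩ hdisc
  have hF1 : F = C (F.coeff 1) * X + C (F.coeff 0) := eq_X_add_C_of_natDegree_le_one (by omega)
  have hG1 : G = C (G.coeff 1) * X + C (G.coeff 0) := eq_X_add_C_of_natDegree_le_one (by omega)
  have hexp : P = C (F.coeff 1 * G.coeff 1) * X ^ 2 + C (F.coeff 1 * G.coeff 0 + F.coeff 0 * G.coeff 1) * X +
      C (F.coeff 0 * G.coeff 0) := by
    rw [hFG]
    conv_lhs => rw [hF1, hG1]
    simp only [map_mul, map_add]
    ring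
  have e2 : P.coeff 2 = F.coeff 1 * G.coeff 1 := by
    rw [hexp]; simp only [coeff_add, coeff_C_mul, coeff_X_pow, coeff_C, coeff_X]; simp
  have e1 : P.coeff 1 = F.coeff 1 * G.coeff 0 + F.coeff 0 * G.coeff 1 := by
    rw [hexp]; simp only [coeff_add, coeff_C_mul, coeff_X_pow, coeff_C, coeff_X]; simp
  have e0 : P.coeff 0 = F.coeff 0 * G.coeff 0 := by
    rw [hexp]; simp only [coeff_add, coeff_C_mul, coeff_X_pow, coeff_C, coeff_X]; simp
  rw [← hco.1, ← hco.2.1, ← hco.2.2, e2, e1, e0]
  ring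

/-- The two primes `(s₁) < (s₁, s₂)` of a polynomial ring in one variable, `s₁` monic linear. -/
theorem isPrime_span_pair {T : Type u} [CommRing T] [IsDomain T] (a : T) (F : T[X]) {q : T} (hq : Prime q)
    (hF : F.eval a = q) : (Ideal.span {X - C a, F}).IsPrime := by
  have h : Ideal.span {X - C a, F} = (Ideal.span {q}).comap (Polynomial.evalRingHom a) := by
    refine le_antisymm (Ideal.span_le.2 ?_) fun G hG => ?_
    · rintro G (rfl | rfl)
      · simp
      · simp [hF]
    · rw [Ideal.mem_comap, coe_evalRingHom, Ideal.mem_span_singleton] at hG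
      obtain ⟨u, hu⟩ := hG
      obtain ⟨G₁, hG₁⟩ := X_sub_C_dvd_sub_C_eval (p := G) (a := a)
      obtain ⟨F₁, hF₁⟩ := X_sub_C_dvd_sub_C_eval (p := F) (a := a)
      rw [hu, map_mul] at hG₁
      rw [hF] at hF₁
      exact Ideal.mem_span_pair.2 ⟨G₁ - C u * F₁, C u, by linear_combination -hG₁ + C u * hF₁⟩
  rw [h]
  have : (Ideal.span {q}).IsPrime := (Ideal.span_singleton_prime hq.ne_zero).2 hq
  exact Ideal.IsPrime.comap _

/-- Abstract irreducibility: `V(C s₂ + C s₁ X, C s₄ + C s₃ X)` when `s₁ s₄ - s₂ s₃` is prime. -/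
theorem radical_isPrime {S : Type u} [CommRing S] [IsDomain S] [IsNoetherianRing S] (s₁ s₂ s₃ s₄ : S)
    (hs₁ : s₁ ≠ 0) (hP : Prime (s₁ * s₄ - s₂ * s₃)) (hndvd : ¬ (s₁ * s₄ - s₂ * s₃) ∣ s₁)
    (h₁ : (Ideal.span {s₁}).IsPrime) (h₁₂ : (Ideal.span {s₁, s₂}).IsPrime) (hs₂ : ¬ s₁ ∣ s₂)
    (hs₃ : s₃ ∉ Ideal.span {s₁, s₂}) :
    (Ideal.span ({C s₂ + C s₁ * X, C s₄ + C s₃ * X} : Set S[X])).radical.IsPrime := by
  classical
  set f := C s₂ + C s₁ * X with hf
  set g := C s₄ + C s₃ * X with hg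
  set P := s₁ * s₄ - s₂ * s₃ with hPdef
  set I := Ideal.span ({f, g} : Set S[X]) with hI
  have hPI : C P ∈ I := Ideal.mem_span_pair.2 ⟨-C s₃, C s₁, by simp only [hf, hg, hPdef, map_sub, map_mul]; ring⟩
  have hPS : (Ideal.span {P}).IsPrime := (Ideal.span_singleton_prime hP.ne_zero).2 hP
  let 𝔭 : Ideal S[X] := (Ideal.span {P}).map C ⊔ Ideal.span {f}
  -- pseudo-division by `f`
  have hdiv : ∀ G : S[X], ∃ (N : ℕ) (g₀ : S) (h : S[X]), C (s₁ ^ N) * G = C g₀ + h * f := fun G => by
    induction G using Polynomial.induction_on with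
    | C a => exact ⟨0, a, 0, by simp⟩
    | add p q hp hq =>
      obtain ⟨N, a, h, hh⟩ := hp
      obtain ⟨N', a', h', hh'⟩ := hq
      refine ⟨N + N', s₁ ^ N' * a + s₁ ^ N * a', C (s₁ ^ N') * h + C (s₁ ^ N) * h', ?_⟩
      simp only [map_add, map_mul, pow_add]
      linear_combination C (s₁ ^ N') * hh + C (s₁ ^ N) * hh'
    | monomial m a ih =>
      obtain ⟨N, a', h, hh⟩ := ih
      refine ⟨N + 1, -(a' * s₂), C a' + C s₁ * h * X, ?_⟩
      simp only [hf, map_mul, map_neg, pow_succ] at hh ⊢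
      linear_combination C s₁ * X * hh
  have hmin : ∀ Q ∈ I.minimalPrimes, C s₁ ∉ Q := by
    intro Q hQ hs
    have hQp := hQ.1.1
    have hfQ : f ∈ Q := hQ.1.2 (Ideal.subset_span (by simp))
    have hgQ : g ∈ Q := hQ.1.2 (Ideal.subset_span (by simp))
    have hs2Q : C s₂ ∈ Q := by
      have : C s₂ = f - C s₁ * X := by rw [hf]; ring
      rw [this]
      exact sub_mem hfQ (Q.mul_mem_right _ hs)
    let J₁ := (Ideal.span {s₁}).map (C : S →+* S[X])
    let J₂ := (Ideal.span {s₁, s₂}).map (C : S →+* S[X])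
    have p₁ : J₁.IsPrime := by have := h₁; exact Ideal.isPrime_map_C_of_isPrime
    have p₂ : J₂.IsPrime := by have := h₁₂; exact Ideal.isPrime_map_C_of_isPrime
    have l₁ : (⊥ : Ideal S[X]) < J₁ := bot_lt_iff_ne_bot.2 fun h => hs₁ (C_eq_zero.1
      (Ideal.mem_bot.1 (h ▸ Ideal.mem_map_of_mem C (Ideal.mem_span_singleton_self s₁) : C s₁ ∈ (⊥ : Ideal S[X]))))
    have l₂ : J₁ < J₂ := lt_of_le_of_ne (Ideal.map_mono (Ideal.span_mono (by simp))) fun h => hs₂ (by
      have : C s₂ ∈ J₁ := h ▸ Ideal.mem_map_of_mem C (Ideal.subset_span (by simp))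
      have := Ideal.mem_map_C_iff.1 this 0
      rwa [coeff_C_zero, Ideal.mem_span_singleton] at this)
    have l₃ : J₂ < Q := lt_of_le_of_ne (Ideal.map_le_iff_le_comap.2 (Ideal.span_le.2 (by
      rintro x (rfl | rfl)
      exacts [hs, hs2Q]))) fun h => hs₃ (by
        have := Ideal.mem_map_C_iff.1 (h ▸ hgQ : g ∈ J₂) 1
        simpa [hg] using this)
    have hb : (⊥ : Ideal S[X]).IsPrime := Ideal.isPrime_bot
    have e1 : (⊥ : Ideal S[X]).height + 1 ≤ J₁.height := Ideal.height_add_one_le_of_lt_of_isPrime l₁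
    have e2 : J₁.height + 1 ≤ J₂.height := Ideal.height_add_one_le_of_lt_of_isPrime l₂
    have e3 : J₂.height + 1 ≤ Q.height := Ideal.height_add_one_le_of_lt_of_isPrime l₃
    have hle : Q.height ≤ 2 := by
      have hQ' : Q ∈ (Ideal.span (({f, g} : Finset S[X]) : Set S[X])).minimalPrimes := by
        rw [show (({f, g} : Finset S[X]) : Set S[X]) = {f, g} by simp]
        exact hQ
      refine (Ideal.height_le_card_of_mem_minimalPrimes_span_finset hQ').trans ?_
      exact_mod_cast Finset.card_le_two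
    have h3 : (3 : ℕ∞) ≤ Q.height := by
      have a1 : (1 : ℕ∞) ≤ J₁.height := le_trans le_add_self e1
      have a2 : (2 : ℕ∞) ≤ J₂.height := le_trans (show (2 : ℕ∞) ≤ J₁.height + 1 from
        (one_add_one_eq_two (R := ℕ∞)).symm.le.trans (add_le_add_left a1 1)) e2
      exact le_trans ((show (3 : ℕ∞) = 2 + 1 from rfl).le.trans (add_le_add_left a2 1)) e3
    exact absurd (h3.trans hle) (by decide)
  have key : ∀ Q ∈ I.minimalPrimes, ∀ G : S[X],
      (G ∈ Q ↔ ∃ N g₀ h, C (s₁ ^ N) * G = C g₀ + h * f ∧ P ∣ g₀) := by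
    intro Q hQ G
    have hQp := hQ.1.1
    have hfQ : f ∈ Q := hQ.1.2 (Ideal.subset_span (by simp))
    have hcQ : (Ideal.span {P}) ≤ Q.comap C := (Ideal.span_singleton_le_iff_mem _).2 (hQ.1.2 hPI)
    have hcomap : Q.comap C = Ideal.span {P} := by
      refine le_antisymm (fun a ha => ?_) hcQ
      by_contra haP
      rw [Ideal.mem_span_singleton] at haP
      -- the kernel of `S[X] → Frac(S/P)`
      let K := FractionRing (S ⧸ Ideal.span {P})
      let ι : S →+* K := (algebraMap (S ⧸ Ideal.span {P}) K).comp (Ideal.Quotient.mk _)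
      have hι : ∀ x, ι x = 0 ↔ P ∣ x := fun x => by
        simp only [ι, RingHom.comp_apply, map_eq_zero_iff _ (IsFractionRing.injective (S ⧸ Ideal.span {P}) K),
          Ideal.Quotient.eq_zero_iff_mem, Ideal.mem_span_singleton]
      have h10 : ι s₁ ≠ 0 := fun h => hndvd ((hι _).1 h)
      let Φ : S[X] →+* K := Polynomial.eval₂RingHom ι (-(ι s₂) / ι s₁)
      have hker : I ≤ RingHom.ker Φ := Ideal.span_le.2 (by
        rintro x (rfl | rfl)
        · show Φ f = 0
          simp [Φ, hf]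
          rw [mul_div_cancel₀ _ h10, add_neg_cancel]
        · show Φ g = 0
          simp [Φ, hg]
          rw [mul_div_assoc', ← mul_right_inj' h10, mul_add, mul_div_cancel₀ _ h10, mul_zero]
          have h0 : ι (s₁ * s₄ - s₂ * s₃) = 0 := (hι P).2 dvd_rfl
          rw [map_sub, map_mul, map_mul] at h0
          linear_combination h0)
      have hprime : (RingHom.ker Φ).IsPrime := RingHom.ker_isPrime _
      obtain ⟨Q', hQ', hQ'le⟩ := Ideal.exists_minimalPrimes_le hker
      -- `Q'` is contained in every minimal prime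
      have hle : Q' ≤ Q := fun H hH => by
        obtain ⟨N, g₀, h, hh⟩ := hdiv H
        have h1 : P ∣ g₀ := by
          rw [← hι]
          have := congrArg Φ hh
          rw [map_mul, show Φ H = 0 from hQ'le hH, map_add, map_mul,
            show Φ f = 0 from hker (Ideal.subset_span (by simp))] at this
          simpa [Φ] using this.symm
        have h2 : C (s₁ ^ N) * H ∈ Q := by
          rw [hh]
          exact add_mem (hcQ (Ideal.mem_span_singleton.2 h1)) (Q.mul_mem_left _ hfQ)
        refine (hQp.mem_or_mem h2).resolve_left fun h3 => hmin Q hQ ?_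
        rw [map_pow] at h3
        exact hQp.mem_of_pow_mem N h3
      have := hQ.2 hQ'.1 hle
      have ha' : ι a = 0 := by simpa [Φ] using (show Φ (C a) = 0 from hQ'le (this ha))
      exact haP ((hι a).1 ha')
    constructor
    · intro hG
      obtain ⟨N, g₀, h, hh⟩ := hdiv G
      refine ⟨N, g₀, h, hh, ?_⟩
      rw [← Ideal.mem_span_singleton, ← hcomap, Ideal.mem_comap,
        show C g₀ = C (s₁ ^ N) * G - h * f by rw [hh]; ring]
      exact sub_mem (Q.mul_mem_left _ hG) (Q.mul_mem_left _ hfQ)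
    · rintro ⟨N, g₀, h, hh, hd⟩
      have h2 : C (s₁ ^ N) * G ∈ Q := by
        rw [hh]
        exact add_mem (hcQ (Ideal.mem_span_singleton.2 hd)) (Q.mul_mem_left _ hfQ)
      refine (hQp.mem_or_mem h2).resolve_left fun h3 => hmin Q hQ ?_
      rw [map_pow] at h3
      exact hQp.mem_of_pow_mem N h3
  have hne : I.minimalPrimes.Nonempty := by
    refine Set.nonempty_coe_sort.1 (Ideal.nonempty_minimalPrimes fun htop => ?_)
    have hker : I ≤ RingHom.ker (Polynomial.eval₂RingHom
        ((algebraMap (S ⧸ Ideal.span {P}) (FractionRing (S ⧸ Ideal.span {P}))).comp (Ideal.Quotient.mk _))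
        (-(algebraMap (S ⧸ Ideal.span {P}) (FractionRing (S ⧸ Ideal.span {P})) (Ideal.Quotient.mk _ s₂)) /
          algebraMap (S ⧸ Ideal.span {P}) (FractionRing (S ⧸ Ideal.span {P})) (Ideal.Quotient.mk _ s₁))) := by
      have h10 : algebraMap (S ⧸ Ideal.span {P}) (FractionRing (S ⧸ Ideal.span {P})) (Ideal.Quotient.mk _ s₁) ≠ 0 := fun h => by
        rw [map_eq_zero_iff _ (IsFractionRing.injective _ _), Ideal.Quotient.eq_zero_iff_mem, Ideal.mem_span_singleton] at h
        exact hndvd h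
      have h0 : algebraMap (S ⧸ Ideal.span {P}) (FractionRing (S ⧸ Ideal.span {P})) (Ideal.Quotient.mk _ P) = 0 := by
        rw [Ideal.Quotient.eq_zero_iff_mem.2 (Ideal.mem_span_singleton_self P), map_zero]
      rw [hPdef] at h0
      simp only [map_sub, map_mul] at h0
      exact Ideal.span_le.2 (by
        rintro x (rfl | rfl)
        · simp [hf]; field_simp; ring
        · simp [hg]; field_simp; linear_combination h0)
    rw [htop] at hker
    exact (RingHom.ker_isPrime _).ne_top (top_le_iff.1 hker)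
  obtain ⟨Q, hQ⟩ := hne
  have hall : ∀ Q' ∈ I.minimalPrimes, Q' = Q := fun Q' hQ' => Ideal.ext fun G => by rw [key Q' hQ', key Q hQ]
  rw [← I.sInf_minimalPrimes, show I.minimalPrimes = {Q} from Set.eq_singleton_iff_unique_mem.2 ⟨hQ, hall⟩,
    sInf_singleton]
  exact hQ.1.1

end Groth.Agent.SymCone42
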